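import Groth.Agent.S17758
import Groth.Agent.Hensel1.Finite
import Groth.Agent.Hensel1.FiniteEtaleLift
import Groth.Agent.EtaleAlgebra.FiniteComplete
import Groth.Agent.Calg4.RegularFlat
import Groth.Agent.Calg4.RegularStalk
import Groth.Agent.Ega4Algebra1.RegularLocal
import Groth.Agent.HensPair.Couple
import Groth.Agent.EGA41Two.DimIntegral
import Groth.Agent.Calg1.Completion
import Mathlib.RingTheory.RingHom.Flat
import Mathlib.RingTheory.Etale.Basic
import Mathlib.RingTheory.Unramified.LocalRing
import Mathlib.RingTheory.KrullDimension.Basic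

/-!
# Punctured spectra of rings of virtual dimension at least two are connected, with all their covers
-/

universe u

set_option autoImplicit false
set_option linter.style.haveILetI false

open IsLocalRing TopologicalSpace
open scoped TensorProduct

namespace Groth.Pi1Vdim

/-- The points not over the closed point. -/
def punc (A : Type u) (B : Type u) [CommRing A] [IsLocalRing A] [CommRing B] [Algebra A B] :
    Set (PrimeSpectrum B) :=
  {q | PrimeSpectrum.comap (algebraMap A B) q ≠ closedPoint A}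

theorem mem_punc {A B : Type u} [CommRing A] [IsLocalRing A] [CommRing B] [Algebra A B]
    {q : PrimeSpectrum B} : q ∈ punc A B ↔ ¬ maximalIdeal A ≤ q.asIdeal.comap (algebraMap A B) := by
  rw [punc, Set.mem_ofPred_eq, ne_eq, PrimeSpectrum.ext_iff, PrimeSpectrum.comap_asIdeal,
    show (closedPoint A).asIdeal = maximalIdeal A from rfl, not_iff_not]
  exact ⟨fun h => h.ge, fun h => le_antisymm (le_maximalIdeal (Ideal.IsPrime.ne_top inferInstance)) h⟩

/-- Over a finite local extension the punctured spectrum is the punctured spectrum. -/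
theorem punc_eq_of_isLocalRing {A B : Type u} [CommRing A] [IsLocalRing A] [CommRing B] [IsLocalRing B]
    [Algebra A B] [Module.Finite A B] : punc A B = {closedPoint B}ᶜ := by
  ext q
  rw [mem_punc, Set.mem_compl_singleton_iff, ne_eq, not_iff_not]
  haveI : Algebra.IsIntegral A B := Algebra.IsIntegral.of_finite A B
  constructor
  · intro h
    have hmax : (q.asIdeal.comap (algebraMap A B)).IsMaximal := by
      rw [← (maximalIdeal.isMaximal A).eq_of_le (Ideal.IsPrime.ne_top inferInstance) h]
      exact maximalIdeal.isMaximal A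
    haveI := Ideal.isMaximal_of_isIntegral_of_isMaximal_comap q.asIdeal hmax
    exact PrimeSpectrum.ext (eq_maximalIdeal this)
  · rintro rfl
    exact (eq_maximalIdeal (Ideal.isMaximal_comap_of_isIntegral_of_isMaximal (maximalIdeal B))).ge

variable (S : Type u) [CommRing S] [IsRegularLocalRing S] [IsAdicComplete (maximalIdeal S) S]
  (d : ℕ) (s : Finset S)

local notation "Q" => S ⧸ Ideal.span (s : Set S)

/-- The local case: a local finite etale algebra over the quotient. -/
theorem isConnected_local (hd : ringKrullDim S = d) (hs : s.card + 2 ≤ d) [IsLocalRing Q]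
    (T : Type u) [CommRing T] [IsLocalRing T] [Algebra Q T] [Module.Finite Q T] [Algebra.Etale Q T] :
    IsConnected ({closedPoint T}ᶜ : Set (PrimeSpectrum T)) := by
  let I := Ideal.span (s : Set S)
  have hI : I ≤ maximalIdeal S := le_maximalIdeal (Ideal.Quotient.nontrivial_iff.1 inferInstance)
  haveI : HenselianRing S I := Groth.Hensel1.henselianRing_of_le_radical
    (I := maximalIdeal S) (hI.trans Ideal.le_radical)
  obtain ⟨B, _, _, _, _, ⟨ε⟩⟩ := Groth.Hensel1.exists_finite_etale_lift I T
  let ρ : B →+* T := ε.toRingHom.comp Algebra.TensorProduct.includeRight.toRingHom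
  have hρ : Function.Surjective ρ :=
    ε.surjective.comp (TensorProduct.mk_surjective S B Q Ideal.Quotient.mk_surjective)
  haveI : Algebra.IsIntegral S B := Algebra.IsIntegral.of_finite S B
  have hker : RingHom.ker ρ = I.map (algebraMap S B) := by
    refine le_antisymm (fun x hx => ?_) ?_
    · have h1 : (1 : Q) ⊗ₜ[S] x = 0 := ε.injective (by rw [map_zero]; exact hx)
      refine Ideal.Quotient.eq_zero_iff_mem.mp
        ((Algebra.TensorProduct.quotIdealMapEquivTensorQuot B I).injective ?_)
      rw [map_zero]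
      simpa using congr_arg (Algebra.TensorProduct.comm S Q B) h1
    · rw [Ideal.map_le_iff_le_comap]
      intro a ha
      show ε ((1 : Q) ⊗ₜ[S] algebraMap S B a) = 0
      rw [show (1 : Q) ⊗ₜ[S] algebraMap S B a = (algebraMap S Q a) ⊗ₜ[S] (1 : B) by
        rw [Algebra.algebraMap_eq_smul_one, Algebra.algebraMap_eq_smul_one, TensorProduct.smul_tmul],
        Ideal.Quotient.algebraMap_eq, Ideal.Quotient.eq_zero_iff_mem.2 ha, TensorProduct.zero_tmul,
        map_zero]
  have hmapjac : (maximalIdeal S).map (algebraMap S B) ≤ Ideal.jacobson ⊥ :=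
    Groth.Hensel1.map_le_jacobson_of_isIntegral (IsAdicComplete.le_jacobson_bot _) B
  haveI : IsLocalRing B := by
    refine IsLocalRing.of_unique_max_ideal ⟨(maximalIdeal T).comap ρ,
      Ideal.comap_isMaximal_of_surjective _ hρ, fun P hP => ?_⟩
    have hle : RingHom.ker ρ ≤ P := by
      rw [hker]
      exact (Ideal.map_mono hI).trans (hmapjac.trans (sInf_le ⟨bot_le, hP⟩))
    have : (P.map ρ).IsMaximal := Ideal.IsMaximal.map_of_surjective_of_ker_le hρ hle
    rw [← eq_maximalIdeal this, Ideal.comap_map_of_surjective' _ hρ, sup_eq_left.mpr hle]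
  haveI : Module.Free S B := Module.free_of_flat_of_isLocalRing
  have hinjS : Function.Injective (algebraMap S B) := FaithfulSMul.algebraMap_injective S B
  haveI : IsLocalHom (algebraMap S B) := RingHom.IsIntegral.isLocalHom Algebra.IsIntegral.isIntegral hinjS
  haveI : IsNoetherianRing B := Algebra.FiniteType.isNoetherianRing S B
  haveI : IsAdicComplete (maximalIdeal B) B := Groth.EtaleAlgebra.FiniteComplete.isAdicComplete_maximal (C := S)
  haveI : IsRegularLocalRing B := Groth.Calg4.isRegularLocalRing_of_flat_of_map_maximalIdeal S B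
    Algebra.FormallyUnramified.map_maximalIdeal
  haveI := Groth.Ega4Algebra1.isDomain_of_isRegularLocalRing B
  haveI := Groth.Ega4Algebra1.isDomain_of_isRegularLocalRing S
  have hdim : ringKrullDim B = d := by
    rw [← hd]
    exact (Groth.EGA41Two.ringKrullDim_eq_of_isIntegral_of_injective hinjS).symm
  obtain ⟨e⟩ : Nonempty (s ≃ Fin s.card) := ⟨s.equivFin⟩
  let g : Fin s.card → B := fun i => algebraMap S B (e.symm i).1
  have hspan : Ideal.span (Set.range g) = I.map (algebraMap S B) := by
    rw [Ideal.map_span]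
    congr 1
    ext x
    simp only [g, Set.mem_range, Set.mem_image]
    exact ⟨fun ⟨i, hi⟩ => ⟨_, (e.symm i).2, hi⟩, fun ⟨y, hy, hx⟩ => ⟨e ⟨y, hy⟩, by simp [hx]⟩⟩
  have hne : RingHom.ker ρ ≠ ⊤ := RingHom.ker_ne_top ρ
  have h := Groth.Agent.S17758.result B d hdim s.card hs g (RingHom.ker ρ) hne (by rw [hspan, hker])
  have emb := PrimeSpectrum.isClosedEmbedding_comap_of_surjective T ρ hρ
  have himg : PrimeSpectrum.comap ρ '' ({closedPoint T}ᶜ : Set (PrimeSpectrum T)) =
      {x : PrimeSpectrum B | RingHom.ker ρ ≤ x.asIdeal ∧ x.asIdeal ≠ maximalIdeal B} := by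
    have hcl : PrimeSpectrum.comap ρ (closedPoint T) = closedPoint B :=
      PrimeSpectrum.ext (eq_maximalIdeal (Ideal.comap_isMaximal_of_surjective (K := maximalIdeal T) _ hρ))
    ext x
    rw [Set.mem_image]
    constructor
    · rintro ⟨y, hy, rfl⟩
      refine ⟨fun b hb => ?_, fun e => hy ?_⟩
      · show ρ b ∈ y.asIdeal
        rw [RingHom.mem_ker.1 hb]; exact zero_mem _
      · exact emb.injective ((PrimeSpectrum.ext e).trans hcl.symm)
    · rintro ⟨hx, hx'⟩
      obtain ⟨y, rfl⟩ : x ∈ Set.range (PrimeSpectrum.comap ρ) := by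
        rw [range_comap_of_surjective _ _ hρ]; exact hx
      exact ⟨y, fun e => hx' (by rw [Set.mem_singleton_iff.1 e, hcl]; rfl), rfl⟩
  rw [← himg] at h
  exact ⟨Set.image_nonempty.1 h.1, emb.isInducing.isPreconnected_image.1 h.2⟩

/-- Finite etale algebras over the quotient: clopens of the punctured part extend uniquely. -/
theorem clopenBij_quotient (hd : ringKrullDim S = d) (hs : s.card + 2 ≤ d) [IsLocalRing Q]
    (B : Type u) [CommRing B] [Algebra Q B] [Module.Finite Q B] [Algebra.Etale Q B] :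
    HensPair.ClopenBij (Subtype.val : punc Q B → PrimeSpectrum B) := by
  haveI : HenselianLocalRing S := Groth.Hensel1.henselianLocalRing_of_henselianRing
  haveI : HenselianLocalRing Q := Groth.Hensel1.henselianLocalRing_of_finite S Q
  obtain ⟨ι, _, e, he, hloc⟩ := Groth.Hensel1.exists_completeOrthogonalIdempotents_local Q B
  let J : ι → Ideal B := fun i => Ideal.span {1 - e i}
  let P : ι → Set (PrimeSpectrum B) := fun i => PrimeSpectrum.zeroLocus (J i : Set B)
  have hP : ∀ i q, q ∈ P i ↔ e i ∉ q.asIdeal := by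
    intro i q
    rw [PrimeSpectrum.mem_zeroLocus, SetLike.coe_subset_coe, Ideal.span_le, Set.singleton_subset_iff]
    constructor
    · exact fun h h' => q.isPrime.ne_top ((Ideal.eq_top_iff_one _).2 (by
        have := add_mem h h'; rwa [sub_add_cancel] at this))
    · intro h
      refine (q.isPrime.mem_or_mem ?_).resolve_left h
      rw [mul_sub, mul_one, (he.idem i).eq, sub_self]; exact zero_mem _
  have hPopen : ∀ i, IsOpen (P i) := fun i => by
    have : P i = (PrimeSpectrum.basicOpen (e i) : Set (PrimeSpectrum B)) := by ext q; exact hP i q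
    rw [this]; exact (PrimeSpectrum.basicOpen _).2
  have hcov : ∀ q, ∃ i, q ∈ P i := fun q => by
    by_contra hno
    push Not at hno
    refine q.isPrime.ne_top ((Ideal.eq_top_iff_one _).2 ?_)
    rw [← he.complete]
    exact sum_mem fun i _ => by_contra fun h => hno i ((hP i q).2 h)
  have huniq : ∀ q i j, q ∈ P i → q ∈ P j → i = j := fun q i j hi hj => by
    by_contra hne
    have := he.ortho hne
    exact (q.isPrime.mem_or_mem (this ▸ zero_mem _)).elim ((hP i q).1 hi) ((hP j q).1 hj)
  have hconn : ∀ i, IsPreconnected (P i ∩ punc Q B) ∧ (P i ∩ punc Q B).Nonempty ∧ IsPreconnected (P i) := by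
    intro i
    haveI := hloc i
    haveI : Algebra.Etale Q (B ⧸ J i) := by
      haveI : IsLocalization.Away (e i) (B ⧸ J i) :=
        IsLocalization.away_of_isIdempotentElem (he.idem i) Ideal.mk_ker Ideal.Quotient.mk_surjective
      haveI := Algebra.Etale.of_isLocalizationAway (R := B) (A := B ⧸ J i) (e i)
      exact Algebra.Etale.comp Q B (B ⧸ J i)
    have h := isConnected_local S d s hd hs (B ⧸ J i)
    rw [← punc_eq_of_isLocalRing (A := Q)] at h
    let c := PrimeSpectrum.comap (Ideal.Quotient.mk (J i))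
    have hc : Continuous c := PrimeSpectrum.continuous_comap _
    have hrange : Set.range c = P i := by
      rw [range_comap_of_surjective _ _ Ideal.Quotient.mk_surjective, Ideal.mk_ker]
    have himg : c '' punc Q (B ⧸ J i) = P i ∩ punc Q B := by
      rw [← hrange, Set.inter_comm, ← Set.image_preimage_eq_inter_range]
      rfl
    refine ⟨himg ▸ h.2.image _ hc.continuousOn, himg ▸ h.1.image _, ?_⟩
    rw [← hrange]
    haveI : PreconnectedSpace (PrimeSpectrum (B ⧸ J i)) := by
      refine ⟨fun u v hu hv huv hu' hv' => ?_⟩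
      rcases huv (Set.mem_univ (closedPoint (B ⧸ J i))) with hm | hm
      · obtain ⟨x, -, hx⟩ := hv'
        have hxu : u = Set.univ := Set.eq_univ_of_forall fun y =>
          (IsLocalRing.specializes_closedPoint y).mem_open hu hm
        exact ⟨x, trivial, hxu ▸ trivial, hx⟩
      · obtain ⟨x, -, hx⟩ := hu'
        have hxu : v = Set.univ := Set.eq_univ_of_forall fun y =>
          (IsLocalRing.specializes_closedPoint y).mem_open hv hm
        exact ⟨x, trivial, hx, hxu ▸ trivial⟩
    exact isPreconnected_range hc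
  intro V hV
  classical
  have hV' : ∀ i x y, x ∈ P i → y ∈ P i → ∀ (hx : x ∈ punc Q B) (hy : y ∈ punc Q B),
      (⟨x, hx⟩ : punc Q B) ∈ V → (⟨y, hy⟩ : punc Q B) ∈ V := by
    intro i x y hxi hyi hx hy hxV
    have hp : IsPreconnected ((Subtype.val : punc Q B → PrimeSpectrum B) ⁻¹' P i) := by
      rw [← Topology.IsInducing.subtypeVal.isPreconnected_image, Subtype.image_preimage_coe,
        Set.inter_comm]
      exact (hconn i).1
    exact hp.subset_isClopen hV ⟨⟨x, hx⟩, hxi, hxV⟩ hyi
  let C : Set (PrimeSpectrum B) := ⋃ i ∈ {i | ∃ x : punc Q B, x.1 ∈ P i ∧ x ∈ V}, P i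
  have hC : IsClopen C := Set.Finite.isClopen_biUnion (Set.toFinite _) fun i _ =>
    ⟨PrimeSpectrum.isClosed_zeroLocus _, hPopen i⟩
  have hCV : Subtype.val ⁻¹' C = V := by
    ext x
    simp only [C, Set.mem_preimage, Set.mem_iUnion₂]
    constructor
    · rintro ⟨i, ⟨y, hyi, hyV⟩, hxi⟩
      exact hV' i y.1 x.1 hyi hxi y.2 x.2 hyV
    · intro hx
      obtain ⟨i, hi⟩ := hcov x.1
      exact ⟨i, ⟨x, hi, hx⟩, hi⟩
  refine ⟨C, ⟨hC, hCV⟩, fun C' hC' => ?_⟩
  ext q
  obtain ⟨i, hi⟩ := hcov q
  obtain ⟨x, hxi, hxp⟩ := (hconn i).2.1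
  have key : ∀ D : Set (PrimeSpectrum B), IsClopen D → (q ∈ D ↔ x ∈ D) := fun D hD =>
    ⟨fun h => (hconn i).2.2.subset_isClopen hD ⟨q, hi, h⟩ hxi,
      fun h => (hconn i).2.2.subset_isClopen hD ⟨x, hxi, h⟩ hi⟩
  rw [key C' hC'.1, key C hC]
  exact Set.ext_iff.1 (hC'.2.trans hCV.symm) ⟨x, hxp⟩

/-- Descent along a faithfully flat local map with trivial residue extension. -/
theorem clopenBij_descend {A A' : Type u} [CommRing A] [IsLocalRing A] [CommRing A'] [IsLocalRing A']
    [Algebra A A'] [Module.FaithfullyFlat A A'] (hmap : (maximalIdeal A).map (algebraMap A A') = maximalIdeal A')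
    (hsur : ∀ y : A', ∃ a : A, y - algebraMap A A' a ∈ maximalIdeal A')
    (B : Type u) [CommRing B] [Algebra A B]
    (h : HensPair.ClopenBij (Subtype.val : punc A' (A' ⊗[A] B) → PrimeSpectrum (A' ⊗[A] B))) :
    HensPair.ClopenBij (Subtype.val : punc A B → PrimeSpectrum B) := by
  let f : B →+* A' ⊗[A] B := Algebra.TensorProduct.includeRight.toRingHom
  have hff : f.FaithfullyFlat := by
    have : Module.FaithfullyFlat B (B ⊗[A] A') := inferInstance
    have h1 : (algebraMap B (B ⊗[A] A')).FaithfullyFlat := RingHom.faithfullyFlat_algebraMap_iff.2 this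
    have h2 : f = (Algebra.TensorProduct.comm A B A').toRingEquiv.toRingHom.comp (algebraMap B (B ⊗[A] A')) := by
      ext b; simp [f, Algebra.TensorProduct.algebraMap_apply]
    rw [h2]
    exact RingHom.FaithfullyFlat.stableUnderComposition _ _ h1
      (RingHom.FaithfullyFlat.of_bijective (Algebra.TensorProduct.comm A B A').bijective)
  have hπs : Function.Surjective (PrimeSpectrum.comap f) := (RingHom.FaithfullyFlat.iff_flat_and_comap_surjective.1 hff).2
  have hπq := PrimeSpectrum.isQuotientMap_of_generalizingMap hπs hff.flat.generalizingMap_comap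
  set π := PrimeSpectrum.comap f
  have hmod : ∀ x : A' ⊗[A] B, ∃ b : B, x - f b ∈ (maximalIdeal A').map (algebraMap A' (A' ⊗[A] B)) := by
    intro x
    induction x using TensorProduct.induction_on with
    | zero => exact ⟨0, by simp⟩
    | tmul y b =>
      obtain ⟨a, ha⟩ := hsur y
      refine ⟨a • b, ?_⟩
      have : y ⊗ₜ[A] b - f (a • b) = algebraMap A' (A' ⊗[A] B) (y - algebraMap A A' a) * f b := by
        simp only [f, AlgHom.toRingHom_eq_coe, RingHom.coe_coe, Algebra.TensorProduct.includeRight_apply,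
          Algebra.TensorProduct.algebraMap_apply, Algebra.algebraMap_self_apply,
          TensorProduct.sub_tmul]
        rw [sub_mul, Algebra.TensorProduct.tmul_mul_tmul, Algebra.TensorProduct.tmul_mul_tmul]
        simp only [mul_one, one_mul]
        rw [TensorProduct.tmul_smul, TensorProduct.smul_tmul', Algebra.smul_def, mul_one]
      rw [this]
      exact Ideal.mul_mem_right _ _ (Ideal.mem_map_of_mem _ ha)
    | add x y hx hy =>
      obtain ⟨a, ha⟩ := hx
      obtain ⟨b, hb⟩ := hy
      exact ⟨a + b, by rw [map_add, add_sub_add_comm]; exact add_mem ha hb⟩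
  have hcompat : f.comp (algebraMap A B) = (algebraMap A' (A' ⊗[A] B)).comp (algebraMap A A') := by
    ext a; simp [f, Algebra.TensorProduct.algebraMap_apply]
  have hpre : ∀ q, π q ∈ punc A B ↔ q ∈ punc A' (A' ⊗[A] B) := by
    intro q
    rw [mem_punc, mem_punc, not_iff_not, PrimeSpectrum.comap_asIdeal, Ideal.comap_comap, hcompat,
      ← Ideal.comap_comap, ← hmap, Ideal.map_le_iff_le_comap]
  have hinj : ∀ q₁ q₂, q₁ ∉ punc A' (A' ⊗[A] B) → q₂ ∉ punc A' (A' ⊗[A] B) → π q₁ = π q₂ → q₁ = q₂ := by
    intro q₁ q₂ h₁ h₂ e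
    rw [mem_punc, not_not, ← Ideal.map_le_iff_le_comap] at h₁ h₂
    have e' : q₁.asIdeal.comap f = q₂.asIdeal.comap f := congrArg PrimeSpectrum.asIdeal e
    ext x
    obtain ⟨b, hb⟩ := hmod x
    have hb' : b ∈ q₁.asIdeal.comap f ↔ b ∈ q₂.asIdeal.comap f := by rw [e']
    simp only [Ideal.mem_comap] at hb'
    rw [show x = f b + (x - f b) by ring, Ideal.add_mem_iff_left _ (h₁ hb),
      Ideal.add_mem_iff_left _ (h₂ hb)]
    exact hb'
  let r : punc A' (A' ⊗[A] B) → punc A B := fun q => ⟨π q.1, (hpre q.1).2 q.2⟩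
  have hr : Continuous r := ((PrimeSpectrum.continuous_comap f).comp continuous_subtype_val).subtype_mk _
  intro V hV
  obtain ⟨C, ⟨hC, hCV⟩, hCu⟩ := h (r ⁻¹' V) (hV.preimage hr)
  have hsat : π ⁻¹' (π '' C) = C := by
    refine Set.Subset.antisymm ?_ (Set.subset_preimage_image _ _)
    rintro q ⟨q', hq', e⟩
    by_cases hq : q ∈ punc A' (A' ⊗[A] B)
    · have hq'p : q' ∈ punc A' (A' ⊗[A] B) := (hpre q').1 (by rw [e]; exact (hpre q).2 hq)
      have h1 : r ⟨q', hq'p⟩ ∈ V := (Set.ext_iff.1 hCV ⟨q', hq'p⟩).1 hq'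
      rw [show r ⟨q', hq'p⟩ = r ⟨q, hq⟩ from Subtype.ext e] at h1
      exact (Set.ext_iff.1 hCV ⟨q, hq⟩).2 h1
    · have hq'p : q' ∉ punc A' (A' ⊗[A] B) := fun hh => hq ((hpre q).1 (by rw [← e]; exact (hpre q').2 hh))
      rwa [hinj q q' hq hq'p e.symm]
  have hclop : IsClopen (π '' C) := by
    refine ⟨?_, ?_⟩
    · rw [← hπq.isClosed_preimage, hsat]; exact hC.1
    · rw [← hπq.isOpen_preimage, hsat]; exact hC.2
  refine ⟨π '' C, ⟨hclop, ?_⟩, fun C' hC' => ?_⟩
  · ext x
    obtain ⟨q, hq⟩ := hπs x.1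
    have hqp : q ∈ punc A' (A' ⊗[A] B) := (hpre q).1 (hq ▸ x.2)
    have hx : r ⟨q, hqp⟩ = x := Subtype.ext hq
    rw [← hx]
    exact (Set.ext_iff.1 hsat q).trans (Set.ext_iff.1 hCV ⟨q, hqp⟩)
  · rw [← hCu (π ⁻¹' C') ⟨hC'.1.preimage (PrimeSpectrum.continuous_comap f), by
      rw [← hC'.2]; rfl⟩, Set.image_preimage_eq _ hπs]

end Groth.Pi1Vdim
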