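import Groth.Agent.Pi1Vdim.Connected
import Groth.Agent.Pi1PBC.Basic
import Groth.Agent.Pi1Depth.Finite
import Groth.Agent.Pi1Normal.Covers
import Groth.Agent.RefRank.BigOpen
import Groth.Agent.NeronArea.FiniteEtaleClosure
import Groth.Agent.EGA41Two.DimIntegral
import Mathlib.AlgebraicGeometry.QuasiAffine

/-!
# Linear sections of the punctured spectrum of a normal complete local domain
-/

universe u

set_option autoImplicit false
set_option backward.isDefEq.respectTransparency false
set_option backward.defeqAttrib.useBackward true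
set_option linter.style.haveILetI false

open CategoryTheory CategoryTheory.Limits AlgebraicGeometry TopologicalSpace
open IsLocalRing (maximalIdeal closedPoint)

namespace Groth.Pi1Vdim

/-- A finite clopen cover by connected pieces each meeting `R` in a connected set. -/
theorem clopenBij_of_pieces {W Y : Type*} [TopologicalSpace W] [TopologicalSpace Y] {ι : Type*} [Finite ι]
    (P : ι → Set Y) (hP : ∀ i, IsClopen (P i)) (hcov : ∀ y, ∃ i, y ∈ P i) {q : W → Y}
    (hq : Topology.IsEmbedding q)
    (hconn : ∀ i, IsPreconnected (P i) ∧ _root_.IsConnected (P i ∩ Set.range q)) : HensPair.ClopenBij q := by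
  intro V hV
  have hV' : ∀ i x y, q x ∈ P i → q y ∈ P i → x ∈ V → y ∈ V := fun i x y hx hy hxV => by
    have hp : IsPreconnected (q ⁻¹' P i) := by
      rw [← hq.isInducing.isPreconnected_image, Set.image_preimage_eq_inter_range]
      exact (hconn i).2.2
    exact hp.subset_isClopen hV ⟨x, hx, hxV⟩ hy
  let C : Set Y := ⋃ i ∈ {i | ∃ x, q x ∈ P i ∧ x ∈ V}, P i
  have hC : IsClopen C := Set.Finite.isClopen_biUnion (Set.toFinite _) fun i _ => hP i
  have hCV : q ⁻¹' C = V := by
    ext x
    simp only [C, Set.mem_preimage, Set.mem_iUnion₂]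
    constructor
    · rintro ⟨i, ⟨y, hyi, hyV⟩, hxi⟩
      exact hV' i y x hyi hxi hyV
    · intro hx
      obtain ⟨i, hi⟩ := hcov (q x)
      exact ⟨i, ⟨x, hi, hx⟩, hi⟩
  refine ⟨C, ⟨hC, hCV⟩, fun C' hC' => ?_⟩
  ext y
  obtain ⟨i, hi⟩ := hcov y
  obtain ⟨_, hxi, x, rfl⟩ := (hconn i).2.1
  have key : ∀ D : Set Y, IsClopen D → (y ∈ D ↔ q x ∈ D) := fun D hD =>
    ⟨fun h => (hconn i).1.subset_isClopen hD ⟨y, hi, h⟩ hxi,
      fun h => (hconn i).1.subset_isClopen hD ⟨q x, hxi, h⟩ hi⟩
  rw [key C' hC'.1, key C hC]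
  exact Set.ext_iff.1 (hC'.2.trans hCV.symm) x

variable (A : Type u) [CommRing A] [IsDomain A] [IsNoetherianRing A] [IsLocalRing A] [IsIntegrallyClosed A]

omit [IsNoetherianRing A] in
theorem isNormalScheme_punctured [IsIntegral (Spec (CommRingCat.of A))] :
    Pi1.IsNormalScheme (FEt.puncturedSpec A : Scheme.{u}) :=
  Pi1Normal.isNormalScheme_of_etale (NeronArea.isNormalScheme_Spec (NeronArea.isNormalRing_of_isIntegrallyClosed A))
    (FEt.puncturedSpec A).ι

variable [IsAdicComplete (maximalIdeal A) A] {k : ℕ} (f : Fin k → A)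

/-- A connected cover of the punctured spectrum meets the linear section in a connected set. -/
theorem isConnected_section (hdim : ((k + 2 : ℕ) : WithBot ℕ∞) ≤ ringKrullDim A)
    (hf : ∀ i, f i ∈ maximalIdeal A) {V : Scheme.{u}} (π : V ⟶ (FEt.puncturedSpec A : Scheme.{u}))
    [IsFinite π] [Etale π] [IsIntegral V] :
    _root_.IsConnected (π.base ⁻¹' ((FEt.puncturedSpec A).ι.base ⁻¹'
      PrimeSpectrum.zeroLocus (Ideal.span (Set.range f) : Set A))) := by
  let U := FEt.puncturedSpec A
  let h : V ⟶ Spec (CommRingCat.of A) := π ≫ U.ι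
  let φ : CommRingCat.of A ⟶ Γ(V, ⊤) := (Scheme.ΓSpecIso (CommRingCat.of A)).inv ≫ h.appTop
  letI : Algebra A Γ(V, ⊤) := φ.hom.toAlgebra
  have hd2 : (2 : WithBot ℕ∞) ≤ ringKrullDim A := le_trans (by exact_mod_cast Nat.le_add_left 2 k) hdim
  haveI : Module.Finite A Γ(V, ⊤) := Pi1Depth.finite_appTop_of_cover (RefRank.two_le_depth_of_normal hd2) π
  haveI : U.toScheme.IsQuasiAffine :=
    haveI : CompactSpace U := isCompact_iff_compactSpace.1 (NoetherianSpace.isCompact _)
    Scheme.IsQuasiAffine.of_isImmersion U.ι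
  haveI : V.IsQuasiAffine := Scheme.IsQuasiAffine.of_isAffineHom π
  let j := V.toSpecΓ
  haveI : IsOpenImmersion j := inferInstance
  have hj : j ≫ Spec.map φ = h := by
    refine ext_of_isAffine ?_
    simp [j, φ]
  haveI : Nontrivial Γ(V, ⊤) := inferInstance
  have hinj : Function.Injective (algebraMap A Γ(V, ⊤)) := by
    refine (injective_iff_map_eq_zero _).2 fun a ha => ?_
    obtain ⟨z, -, hzh⟩ := Flat.generalizingMap h (genericPoint_specializes (h (genericPoint V)))
    have h1 : a ∈ (Spec.map φ (j z)).asIdeal := by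
      change φ.hom a ∈ (j z).asIdeal
      rw [show φ.hom a = 0 from ha]
      exact zero_mem _
    have h3 : h z = (⊥ : PrimeSpectrum A) := hzh.trans (genericPoint_eq_bot_of_affine (CommRingCat.of A))
    rw [← Scheme.Hom.comp_apply, hj, h3] at h1
    exact h1
  haveI : Algebra.IsIntegral A Γ(V, ⊤) := Algebra.IsIntegral.of_finite A _
  haveI : HenselianLocalRing A := Hensel1.henselianLocalRing_of_henselianRing
  haveI : IsLocalRing Γ(V, ⊤) := by
    obtain ⟨ι, _, e, he, hloc⟩ := Hensel1.exists_completeOrthogonalIdempotents_local A Γ(V, ⊤)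
    obtain ⟨i, hi⟩ : ∃ i, e i = 1 := by
      by_contra hno
      simp only [not_exists] at hno
      have h0 : ∀ i, e i = 0 := fun i =>
        ((IsIdempotentElem.iff_eq_zero_or_one.1 (he.idem i)).resolve_right (hno i))
      exact one_ne_zero (he.complete.symm.trans (Finset.sum_eq_zero fun i _ => h0 i))
    haveI := hloc i
    have hbot : Ideal.span {1 - e i} = ⊥ := by rw [hi, sub_self]; exact Ideal.span_singleton_eq_bot.2 rfl
    exact ((Ideal.quotEquivOfEq hbot).trans (RingEquiv.quotientBot _)).isLocalRing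
  haveI : IsNoetherianRing Γ(V, ⊤) := Algebra.FiniteType.isNoetherianRing A _
  haveI : IsLocalHom (algebraMap A Γ(V, ⊤)) :=
    RingHom.IsIntegral.isLocalHom Algebra.IsIntegral.isIntegral hinj
  haveI : IsAdicComplete (maximalIdeal Γ(V, ⊤)) Γ(V, ⊤) :=
    EtaleAlgebra.FiniteComplete.isAdicComplete_maximal (C := A)
  -- the dimension
  have hdimB : ringKrullDim Γ(V, ⊤) = ringKrullDim A :=
    (EGA41Two.ringKrullDim_eq_of_isIntegral_of_injective hinj).symm
  obtain ⟨d, hd⟩ : ∃ d : ℕ, ringKrullDim A = d := by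
    obtain ⟨x, hx⟩ := WithBot.ne_bot_iff_exists.1 (ringKrullDim_ne_bot (R := A))
    cases x with
    | top => exact absurd hx.symm (ne_of_lt ringKrullDim_lt_top)
    | coe n => exact ⟨n, hx.symm⟩
  have hkd : k + 2 ≤ d := by rw [hd] at hdim; exact_mod_cast hdim
  let I : Ideal Γ(V, ⊤) := (Ideal.span (Set.range f)).map (algebraMap A Γ(V, ⊤))
  have hIm : I ≤ maximalIdeal Γ(V, ⊤) :=
    Ideal.map_le_iff_le_comap.2 (Ideal.span_le.2 (by
      rintro _ ⟨i, rfl⟩; exact map_nonunit (algebraMap A Γ(V, ⊤)) (f i) (hf i)))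
  have key := Groth.Agent.S17758.result Γ(V, ⊤) d (hdimB.trans hd) k hkd (algebraMap A _ ∘ f) I
    (ne_top_of_le_ne_top Ideal.IsPrime.ne_top' hIm) (by rw [Set.range_comp, ← Ideal.map_span])
  -- the image of the open immersion
  have hrange : Set.range j.base = punc A Γ(V, ⊤) := by
    have hsub : Set.range j.base ⊆ punc A Γ(V, ⊤) := by
      rintro _ ⟨v, rfl⟩
      have : Spec.map φ (j v) = U.ι (π v) := by
        rw [← Scheme.Hom.comp_apply, hj]; rfl
      intro hc
      exact (π v).2 (this.symm.trans hc)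
    let P : (Spec Γ(V, ⊤)).Opens := Spec.map φ ⁻¹ᵁ U
    have hP : (P : Set (Spec Γ(V, ⊤))) = punc A Γ(V, ⊤) := rfl
    have hr : Set.range j.base ⊆ Set.range P.ι.base := by rw [Scheme.Opens.range_ι]; exact hsub
    let jP := IsOpenImmersion.lift P.ι j hr
    have hjP : jP ≫ (Spec.map φ ∣_ U) = π := by
      rw [← cancel_mono U.ι, Category.assoc, morphismRestrict_ι, IsOpenImmersion.lift_fac_assoc, hj]
    haveI : IsFinite (jP ≫ (Spec.map φ ∣_ U)) := by rw [hjP]; infer_instance
    haveI : IsFinite jP := IsFinite.of_comp jP (Spec.map φ ∣_ U)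
    have hclosed : IsClosed (Set.range jP.base) := jP.isClosedMap.isClosed_range
    have himg : Set.range j.base = P.ι.base '' Set.range jP.base := by
      rw [← Set.range_comp]
      conv_lhs => rw [← IsOpenImmersion.lift_fac P.ι j hr]
      rfl
    haveI : IrreducibleSpace (PrimeSpectrum Γ(V, ⊤)) := inferInstance
    have hPconn : PreconnectedSpace P.toScheme := by
      haveI : IsIntegral (Spec Γ(V, ⊤)) := inferInstance
      have : IsPreirreducible (P : Set (Spec Γ(V, ⊤))) :=
        (PreirreducibleSpace.isPreirreducible_univ).open_subset P.2 (Set.subset_univ _)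
      exact Subtype.preconnectedSpace this.isPreconnected
    have huniv : Set.range jP.base = Set.univ :=
      IsClopen.eq_univ ⟨hclosed, (IsOpenImmersion.lift P.ι j hr).isOpenEmbedding.isOpen_range⟩
        (Set.range_nonempty _)
    rw [himg, huniv, Set.image_univ, Scheme.Opens.range_ι, hP]
  have hset : j.base '' (π.base ⁻¹' (U.ι.base ⁻¹' PrimeSpectrum.zeroLocus (Ideal.span (Set.range f) : Set A))) =
      {x : PrimeSpectrum Γ(V, ⊤) | I ≤ x.asIdeal ∧ x.asIdeal ≠ maximalIdeal Γ(V, ⊤)} := by
    have hcomp : ∀ v, (U.ι (π v) : PrimeSpectrum A) = PrimeSpectrum.comap (algebraMap A Γ(V, ⊤)) (j v) := by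
      intro v
      change (π ≫ U.ι) v = Spec.map φ (j v)
      rw [← Scheme.Hom.comp_apply, hj]
    ext x
    constructor
    · rintro ⟨v, hv, rfl⟩
      have hv' : Ideal.span (Set.range f) ≤ (U.ι (π v)).asIdeal := hv
      rw [hcomp] at hv'
      refine ⟨Ideal.map_le_iff_le_comap.2 hv', fun e => ?_⟩
      have : j v ∈ punc A Γ(V, ⊤) := hrange ▸ ⟨v, rfl⟩
      rw [punc_eq_of_isLocalRing] at this
      exact this (PrimeSpectrum.ext e)
    · rintro ⟨hx, hx'⟩
      obtain ⟨v, rfl⟩ : x ∈ Set.range j.base := by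
        rw [hrange, punc_eq_of_isLocalRing]
        exact fun e => hx' (congrArg PrimeSpectrum.asIdeal e)
      refine ⟨v, ?_, rfl⟩
      change Ideal.span (Set.range f) ≤ (U.ι (π v)).asIdeal
      rw [hcomp]
      exact Ideal.map_le_iff_le_comap.1 hx
  rw [← hset] at key
  exact ⟨Set.image_nonempty.1 key.1, j.isOpenEmbedding.isInducing.isPreconnected_image.1 key.2⟩

/-- Restriction to a linear section of the punctured spectrum: fully faithful and connected. -/
theorem linearSection (hdim : ((k + 2 : ℕ) : WithBot ℕ∞) ≤ ringKrullDim A) (hf : ∀ i, f i ∈ maximalIdeal A)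
    {Y' : Scheme.{u}} (ι' : Y' ⟶ (FEt.puncturedSpec A : Scheme.{u})) [IsClosedImmersion ι']
    (hr : Set.range ι'.base = (FEt.puncturedSpec A).ι.base ⁻¹'
      PrimeSpectrum.zeroLocus (Ideal.span (Set.range f) : Set A)) :
    ConnectedSpace Y' ∧ (FEt.restrict ι').Full ∧ (FEt.restrict ι').Faithful := by
  haveI : IsIntegral (Spec (CommRingCat.of A)) := inferInstance
  haveI : Nonempty ↥(FEt.puncturedSpec A : Scheme.{u}) := by
    refine ⟨⟨(⊥ : PrimeSpectrum A), fun e => ?_⟩⟩
    have h0 : maximalIdeal A = ⊥ := (congrArg PrimeSpectrum.asIdeal e).symm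
    have hfield : IsField A := IsLocalRing.isField_iff_maximalIdeal_eq.2 h0
    rw [ringKrullDim_eq_zero_of_isField hfield] at hdim
    have : k + 2 ≤ 0 := by exact_mod_cast hdim
    omega
  haveI : IsIntegral (FEt.puncturedSpec A : Scheme.{u}) := isIntegral_of_isOpenImmersion (FEt.puncturedSpec A).ι
  have hX := isNormalScheme_punctured A
  constructor
  · have h := isConnected_section A f hdim hf (𝟙 (FEt.puncturedSpec A : Scheme.{u}))
    replace h : _root_.IsConnected (Set.range ι'.base) := hr ▸ h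
    haveI := Subtype.connectedSpace h
    exact ι'.isEmbedding.toHomeomorph.symm.surjective.connectedSpace ι'.isEmbedding.toHomeomorph.symm.continuous
  refine Pi1PBC.fullyFaithful_of_clopenBij _ fun W => ?_
  haveI : IsFinite W.hom := W.prop.1
  haveI : Etale W.hom := W.prop.2
  let G : Set W.left := W.hom.base ⁻¹' {genericPoint (FEt.puncturedSpec A : Scheme.{u})}
  haveI : Finite G := (W.hom.finite_preimage_singleton _).to_subtype
  haveI : IsClosedImmersion (pullback.fst W.hom ι') := MorphismProperty.pullback_fst _ _ inferInstance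
  refine clopenBij_of_pieces (fun g : G => closure {g.1})
    (fun g => Pi1Normal.isClopen_closure_generic hX W.hom g.2)
    (fun y => by
      obtain ⟨g, ⟨hg, hgy⟩, -⟩ := Pi1Normal.existsUnique_generic hX W.hom y
      exact ⟨⟨g, hg⟩, specializes_iff_mem_closure.1 hgy⟩)
    (pullback.fst W.hom ι').isClosedEmbedding.isEmbedding fun g => ⟨isIrreducible_singleton.closure.isConnected.isPreconnected, ?_⟩
  rw [show Set.range (pullback.fst W.hom ι').base = W.hom.base ⁻¹' Set.range ι'.base from
    Scheme.Pullback.range_fst W.hom ι', hr]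
  have hclop := Pi1Normal.isClopen_closure_generic hX W.hom g.2
  let O : W.left.Opens := ⟨closure {g.1}, hclop.2⟩
  haveI : IsClosedImmersion O.ι := IsClosedImmersion.of_isPreimmersion _ (by
    rw [Scheme.Opens.range_ι]; exact hclop.1)
  haveI : ConnectedSpace O.toScheme := Subtype.connectedSpace isIrreducible_singleton.closure.isConnected
  let π : O.toScheme ⟶ (FEt.puncturedSpec A : Scheme.{u}) := O.ι ≫ W.hom
  haveI : IsFinite π := inferInstance
  haveI : Etale π := inferInstance
  haveI : IsIntegral O.toScheme := Pi1Normal.isIntegral_of_connectedSpace hX π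
  have h := (isConnected_section A f hdim hf π).image _ O.ι.continuous.continuousOn
  have e : O.ι.base '' (π.base ⁻¹' ((FEt.puncturedSpec A).ι.base ⁻¹'
      PrimeSpectrum.zeroLocus (Ideal.span (Set.range f) : Set A))) =
      closure {g.1} ∩ W.hom.base ⁻¹' ((FEt.puncturedSpec A).ι.base ⁻¹'
      PrimeSpectrum.zeroLocus (Ideal.span (Set.range f) : Set A)) := by
    rw [show (⇑π.base : O.toScheme → _) = W.hom.base ∘ O.ι.base from rfl, Set.preimage_comp,
      Set.image_preimage_eq_inter_range, Scheme.Opens.range_ι, Set.inter_comm]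
    rfl
  rwa [e] at h

end Groth.Pi1Vdim
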